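import Cfsg.Agent.Class.Witt
import Cfsg.Agent.Class.LinearBasic
import Cfsg.Prelude.Def_ClassicalGeometry

/-!
# Stabilisers of subspaces in `GL` and `SL`

Rank one updates `1 + v wᵀ`, transitivity of the stabiliser of a subspace `W` on `W \ 0` and on the
complement of `W`, invariant subspaces, maximality.
-/

set_option autoImplicit false

namespace Cfsg.Agent.Class.GLStab

open Matrix

variable {ι : Type} [Fintype ι] [DecidableEq ι] {F : Type*} [Field F]

theorem det_one_add_vecMulVec (v w : ι → F) : (1 + vecMulVec v w).det = 1 + w ⬝ᵥ v := by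
  rw [vecMulVec_eq Unit, det_one_add_replicateCol_mul_replicateRow]

theorem one_add_vecMulVec_mulVec (v w x : ι → F) :
    (1 + vecMulVec v w) *ᵥ x = x + (w ⬝ᵥ x) • v := by
  rw [add_mulVec, one_mulVec, vecMulVec_mulVec]
  simp

/-- The rank one update `x ↦ x + (w ⬝ x) v` as an invertible matrix. -/
noncomputable def rk1 (v w : ι → F) (h : 1 + w ⬝ᵥ v ≠ 0) : GL ι F :=
  Matrix.GeneralLinearGroup.mkOfDetNeZero (1 + vecMulVec v w) (by rwa [det_one_add_vecMulVec])

theorem coe_rk1 (v w : ι → F) (h : 1 + w ⬝ᵥ v ≠ 0) :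
    (rk1 v w h : Matrix ι ι F) = 1 + vecMulVec v w := rfl

theorem rk1_mulVec (v w : ι → F) (h : 1 + w ⬝ᵥ v ≠ 0) (x : ι → F) :
    (rk1 v w h : Matrix ι ι F) *ᵥ x = x + (w ⬝ᵥ x) • v := one_add_vecMulVec_mulVec v w x

theorem det_rk1 (v w : ι → F) (h : 1 + w ⬝ᵥ v ≠ 0) :
    (rk1 v w h : Matrix ι ι F).det = 1 + w ⬝ᵥ v := det_one_add_vecMulVec v w

theorem exists_dot_eq (φ : (ι → F) →ₗ[F] F) : ∃ w : ι → F, ∀ x, w ⬝ᵥ x = φ x := by
  refine ⟨fun j => φ (Pi.single j 1), fun x => ?_⟩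
  conv_rhs => rw [← Finset.univ_sum_single x]
  rw [map_sum, dotProduct]
  refine Finset.sum_congr rfl fun j _ => ?_
  rw [mul_comm, ← smul_eq_mul, ← map_smul, ← Pi.single_smul', smul_eq_mul, mul_one]

theorem exists_dot_pair (H : Submodule F (ι → F)) {u u' : ι → F} (hu : u ∉ H) (hu' : u' ∉ H) :
    ∃ w : ι → F, (∀ h ∈ H, w ⬝ᵥ h = 0) ∧ w ⬝ᵥ u = 1 ∧ w ⬝ᵥ u' ≠ 0 := by
  obtain ⟨φ, a, b, c⟩ := exists_dual_ne_zero_pair H hu hu'
  obtain ⟨w, hw⟩ := exists_dot_eq φ
  exact ⟨w, fun h hh => by rw [hw, a h hh], by rw [hw, b], by rwa [hw]⟩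

theorem exists_dot_eq_of_notMem (H : Submodule F (ι → F)) {u : ι → F} (hu : u ∉ H) (c : F) :
    ∃ w : ι → F, (∀ h ∈ H, w ⬝ᵥ h = 0) ∧ w ⬝ᵥ u = c := by
  obtain ⟨w, a, b, -⟩ := exists_dot_pair H hu hu
  exact ⟨c • w, fun h hh => by simp [a h hh], by simp [b]⟩

/-- The stabiliser of a subspace in `GL`. -/
abbrev stab (W : Submodule F (ι → F)) : Subgroup (GL ι F) :=
  stabilizing (glToMat ι F) (W : Set (ι → F))

theorem mem_stabilizing {H : Type*} [Group H] (f : H →* Matrix ι ι F) (S : Set (ι → F)) (h : H) :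
    h ∈ stabilizing f S ↔ ∀ v, v ∈ S ↔ f h *ᵥ v ∈ S := Iff.rfl

theorem mem_stab {W : Submodule F (ι → F)} {g : GL ι F} :
    g ∈ stab W ↔ ∀ v, v ∈ W ↔ (g : Matrix ι ι F) *ᵥ v ∈ W := Iff.rfl

theorem inv_mulVec_mulVec (g : GL ι F) (v : ι → F) :
    ((g⁻¹ : GL ι F) : Matrix ι ι F) *ᵥ ((g : Matrix ι ι F) *ᵥ v) = v := by
  rw [mulVec_mulVec, ← Units.val_mul, inv_mul_cancel, Units.val_one, one_mulVec]

theorem mulVec_inv_mulVec (g : GL ι F) (v : ι → F) :
    (g : Matrix ι ι F) *ᵥ (((g⁻¹ : GL ι F) : Matrix ι ι F) *ᵥ v) = v := by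
  rw [mulVec_mulVec, ← Units.val_mul, mul_inv_cancel, Units.val_one, one_mulVec]

theorem mulVec_ne_zero (g : GL ι F) {v : ι → F} (hv : v ≠ 0) : (g : Matrix ι ι F) *ᵥ v ≠ 0 := by
  intro h
  apply hv
  rw [← inv_mulVec_mulVec g v, h, mulVec_zero]

/-- For a monoid hom to matrices, stabilising a subspace means mapping it into itself. -/
theorem mem_stabilizing_iff_le {H : Type*} [Group H] (f : H →* Matrix ι ι F)
    (W : Submodule F (ι → F)) (h : H) :
    h ∈ stabilizing f (W : Set (ι → F)) ↔ ∀ v ∈ W, f h *ᵥ v ∈ W := by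
  refine ⟨fun a v hv => (a v).mp hv, fun a v => ⟨a v, fun hv => ?_⟩⟩
  have hinj : Function.Injective (f h).mulVecLin := by
    intro x y e
    have := congrArg (fun z => f h⁻¹ *ᵥ z) e
    simpa [mulVec_mulVec, ← map_mul] using this
  let r : W →ₗ[F] W := (f h).mulVecLin.restrict a
  have rinj : Function.Injective r := fun x y e =>
    Subtype.ext (hinj (congrArg Subtype.val e))
  obtain ⟨w, hw⟩ := (LinearMap.injective_iff_surjective.mp rinj) ⟨_, hv⟩
  have : (w : ι → F) = v := hinj (congrArg Subtype.val hw)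
  exact this ▸ w.2

theorem mem_stab_iff_le {W : Submodule F (ι → F)} {g : GL ι F} :
    g ∈ stab W ↔ ∀ v ∈ W, (g : Matrix ι ι F) *ᵥ v ∈ W := mem_stabilizing_iff_le _ W g

theorem rk1_mem_stab_of_mem {W : Submodule F (ι → F)} {v w : ι → F} (h : 1 + w ⬝ᵥ v ≠ 0)
    (hv : v ∈ W) : rk1 v w h ∈ stab W :=
  mem_stab_iff_le.mpr fun x hx => by
    rw [rk1_mulVec]; exact W.add_mem hx (W.smul_mem _ hv)

theorem rk1_mem_stab_of_orth {W : Submodule F (ι → F)} {v w : ι → F} (h : 1 + w ⬝ᵥ v ≠ 0)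
    (hw : ∀ x ∈ W, w ⬝ᵥ x = 0) : rk1 v w h ∈ stab W :=
  mem_stab_iff_le.mpr fun x hx => by
    rw [rk1_mulVec, hw x hx]; simpa using hx

/-- The stabiliser of `W ≠ ⊤` in `SL` is transitive on the non-zero vectors of `W`; more precisely
any determinant can be prescribed. -/
theorem exists_stab_of_mem {W : Submodule F (ι → F)} (hW : W ≠ ⊤) {u u' : ι → F} (hu : u ∈ W)
    (hu' : u' ∈ W) (hu0 : u ≠ 0) (hu0' : u' ≠ 0) {d : F} (hd : d ≠ 0) :
    ∃ g ∈ stab W, (g : Matrix ι ι F).det = d ∧ (g : Matrix ι ι F) *ᵥ u = u' := by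
  obtain ⟨w, -, h1, h2⟩ := exists_dot_pair ⊥ (u := u) (u' := u') (by simpa using hu0)
    (by simpa using hu0')
  have ha : 1 + w ⬝ᵥ (u' - u) ≠ 0 := by simpa [h1] using h2
  obtain ⟨v, hv⟩ : ∃ v, v ∉ W := by
    by_contra hc
    push Not at hc
    exact hW (eq_top_iff.mpr fun x _ => hc x)
  obtain ⟨w', k1, k2⟩ := exists_dot_eq_of_notMem W hv (d / (1 + w ⬝ᵥ (u' - u)) - 1)
  have hb : 1 + w' ⬝ᵥ v ≠ 0 := by
    rw [k2, add_sub_cancel]; exact div_ne_zero hd ha
  refine ⟨rk1 _ _ ha * rk1 _ _ hb, (stab W).mul_mem (rk1_mem_stab_of_mem ha (W.sub_mem hu' hu))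
    (rk1_mem_stab_of_orth hb k1), ?_, ?_⟩
  · rw [Units.val_mul, det_mul, det_rk1, det_rk1, k2]
    field_simp
    ring
  · rw [Units.val_mul, ← mulVec_mulVec, rk1_mulVec, rk1_mulVec, k1 u hu]
    simp [h1]

/-- The stabiliser of `W ≠ ⊥` in `SL` is transitive on the vectors outside `W`; more precisely
any determinant can be prescribed. -/
theorem exists_stab_of_notMem {W : Submodule F (ι → F)} (hW : W ≠ ⊥) {u u' : ι → F} (hu : u ∉ W)
    (hu' : u' ∉ W) {d : F} (hd : d ≠ 0) :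
    ∃ g ∈ stab W, (g : Matrix ι ι F).det = d ∧ (g : Matrix ι ι F) *ᵥ u = u' := by
  obtain ⟨w, h0, h1, h2⟩ := exists_dot_pair W hu hu'
  have ha : 1 + w ⬝ᵥ (u' - u) ≠ 0 := by simpa [h1] using h2
  obtain ⟨v, hv, hv0⟩ := (Submodule.ne_bot_iff W).mp hW
  have hvu : v ∉ Submodule.span F {u} := by
    intro h
    obtain ⟨a, rfl⟩ := Submodule.mem_span_singleton.mp h
    have ha0 : a ≠ 0 := by rintro rfl; simp at hv0
    exact hu ((W.smul_mem_iff ha0).mp hv)
  obtain ⟨w', k1, k2⟩ := exists_dot_eq_of_notMem _ hvu (d / (1 + w ⬝ᵥ (u' - u)) - 1)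
  have hb : 1 + w' ⬝ᵥ v ≠ 0 := by
    rw [k2, add_sub_cancel]; exact div_ne_zero hd ha
  refine ⟨rk1 _ _ ha * rk1 _ _ hb, (stab W).mul_mem (rk1_mem_stab_of_orth ha h0)
    (rk1_mem_stab_of_mem hb hv), ?_, ?_⟩
  · rw [Units.val_mul, det_mul, det_rk1, det_rk1, k2]
    field_simp
    ring
  · rw [Units.val_mul, ← mulVec_mulVec, rk1_mulVec, rk1_mulVec,
      k1 u (Submodule.mem_span_singleton_self u)]
    simp [h1]

/-- `SL` is transitive on non-zero vectors in dimension at least two (any determinant). -/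
theorem exists_det_eq_mulVec_eq [Nontrivial ι] {u u' : ι → F} (hu : u ≠ 0) (hu' : u' ≠ 0) {d : F}
    (hd : d ≠ 0) : ∃ g : GL ι F, (g : Matrix ι ι F).det = d ∧ (g : Matrix ι ι F) *ᵥ u = u' := by
  obtain ⟨w, -, h1, h2⟩ := exists_dot_pair ⊥ (u := u) (u' := u') (by simpa using hu)
    (by simpa using hu')
  have ha : 1 + w ⬝ᵥ (u' - u) ≠ 0 := by simpa [h1] using h2
  have hW : Submodule.span F {u} ≠ ⊤ := by
    intro h
    have h1 := finrank_span_singleton (K := F) hu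
    rw [h, finrank_top, Module.finrank_fintype_fun_eq_card] at h1
    have := Fintype.one_lt_card (α := ι)
    omega
  obtain ⟨g, -, g1, g2⟩ := exists_stab_of_mem hW (Submodule.mem_span_singleton_self u)
    (Submodule.mem_span_singleton_self u) hu hu (div_ne_zero hd ha)
  refine ⟨rk1 _ _ ha * g, ?_, ?_⟩
  · rw [Units.val_mul, det_mul, det_rk1, g1]
    field_simp
  · rw [Units.val_mul, ← mulVec_mulVec, g2, rk1_mulVec]
    simp [h1]

/-- The subspaces invariant under the stabiliser of `W` in `SL`. -/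
theorem eq_of_invariant {W U : Submodule F (ι → F)} (hb : W ≠ ⊥) (ht : W ≠ ⊤)
    (hU : ∀ g ∈ stab W, (g : Matrix ι ι F).det = 1 → ∀ v ∈ U, (g : Matrix ι ι F) *ᵥ v ∈ U) :
    U = ⊥ ∨ U = W ∨ U = ⊤ := by
  by_cases h1 : U ≤ W
  · by_cases h2 : U = ⊥
    · exact Or.inl h2
    obtain ⟨u, hu, hu0⟩ := (Submodule.ne_bot_iff U).mp h2
    refine Or.inr (Or.inl (le_antisymm h1 fun x hx => ?_))
    by_cases hx0 : x = 0
    · rw [hx0]; exact U.zero_mem
    obtain ⟨g, g0, g1, g2⟩ := exists_stab_of_mem ht (h1 hu) hx hu0 hx0 one_ne_zero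
    exact g2 ▸ hU g g0 g1 u hu
  · obtain ⟨u, hu, huW⟩ := SetLike.not_le_iff_exists.mp h1
    have h3 : ∀ x, x ∉ W → x ∈ U := fun x hx => by
      obtain ⟨g, g0, g1, g2⟩ := exists_stab_of_notMem hb huW hx one_ne_zero
      exact g2 ▸ hU g g0 g1 u hu
    refine Or.inr (Or.inr (eq_top_iff.mpr fun x _ => ?_))
    by_cases hx : x ∈ W
    · have : u + x ∉ W := fun h => huW (by simpa using W.sub_mem h hx)
      simpa using U.sub_mem (h3 _ this) hu
    · exact h3 x hx

theorem conj_rk1 (k : GL ι F) (v w : ι → F) (h : 1 + w ⬝ᵥ v ≠ 0) :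
    ∃ h', k * rk1 v w h * k⁻¹ =
      rk1 ((k : Matrix ι ι F) *ᵥ v) (w ᵥ* ((k⁻¹ : GL ι F) : Matrix ι ι F)) h' := by
  refine ⟨by rwa [← dotProduct_mulVec, inv_mulVec_mulVec], Units.ext ?_⟩
  rw [Units.val_mul, Units.val_mul, coe_rk1, coe_rk1, mul_add, add_mul, mul_one, ← Units.val_mul,
    mul_inv_cancel, Units.val_one, mul_vecMulVec, vecMulVec_mul]

/-- A subgroup of `GL` containing the stabiliser of `W` in `SL` and not stabilising `W` contains
`SL`. -/
theorem mem_of_det_eq_one {W : Submodule F (ι → F)} (hb : W ≠ ⊥)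
    (K : Subgroup (GL ι F)) (hK : ∀ g ∈ stab W, (g : Matrix ι ι F).det = 1 → g ∈ K)
    {k : GL ι F} (hk : k ∈ K) (hkW : k ∉ stab W) (g : GL ι F) (hg : (g : Matrix ι ι F).det = 1) :
    g ∈ K := by
  rw [mem_stab_iff_le] at hkW
  push Not at hkW
  obtain ⟨x, hx, hkx⟩ := hkW
  have hmove : ∀ v : ι → F, ∃ c ∈ K, (c : Matrix ι ι F) *ᵥ v ∈ W := by
    intro v
    by_cases hv : v ∈ W
    · exact ⟨1, K.one_mem, by simpa using hv⟩
    obtain ⟨c, c0, c1, c2⟩ := exists_stab_of_notMem hb hv hkx one_ne_zero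
    refine ⟨k⁻¹ * c, K.mul_mem (K.inv_mem hk) (hK c c0 c1), ?_⟩
    rw [Units.val_mul, ← mulVec_mulVec, c2, inv_mulVec_mulVec]
    exact hx
  have hrk : ∀ (v w : ι → F) (h : 1 + w ⬝ᵥ v ≠ 0), w ⬝ᵥ v = 0 → rk1 v w h ∈ K := by
    intro v w h h0
    obtain ⟨c, hc, hcv⟩ := hmove v
    obtain ⟨h', e⟩ := conj_rk1 c v w h
    have h1 : c * rk1 v w h * c⁻¹ ∈ K := by
      refine hK _ (e ▸ rk1_mem_stab_of_mem h' hcv) ?_
      rw [e, det_rk1, ← dotProduct_mulVec, inv_mulVec_mulVec, h0, add_zero]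
    have := K.mul_mem (K.mul_mem (K.inv_mem hc) h1) hc
    simpa [mul_assoc] using this
  have htop := SL_eq_top_of_transvection_mem (K.comap Matrix.SpecialLinearGroup.toGL)
    (fun i j hij c => by
      have h0 : (Pi.single j c : ι → F) ⬝ᵥ Pi.single i 1 = 0 := by
        simp [hij.symm]
      have := hrk (Pi.single i 1) (Pi.single j c) (by simp [h0]) h0
      rw [Subgroup.mem_comap]
      convert this using 1
      refine Units.ext ?_
      rw [coe_rk1]
      change Matrix.transvection i j c = _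
      rw [Matrix.transvection]
      congr 1
      ext a b
      simp [vecMulVec_apply, Pi.single_apply, Matrix.single_apply]
      grind)
  let g' : Matrix.SpecialLinearGroup ι F := ⟨g, hg⟩
  have : g' ∈ K.comap Matrix.SpecialLinearGroup.toGL := htop ▸ Subgroup.mem_top g'
  rw [Subgroup.mem_comap] at this
  convert this using 1
  exact Units.ext rfl

/-- The stabiliser of a proper non-zero subspace is a maximal subgroup of any group mapping to `GL`
with image containing `SL`. -/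
theorem isCoatom_comap_stab {W : Submodule F (ι → F)} (hb : W ≠ ⊥) (ht : W ≠ ⊤) {H : Type*}
    [Group H] (f : H →* GL ι F) (hf : ∀ g : GL ι F, (g : Matrix ι ι F).det = 1 → g ∈ f.range) :
    IsCoatom ((stab W).comap f) := by
  obtain ⟨v, hv, hv0⟩ := (Submodule.ne_bot_iff W).mp hb
  obtain ⟨u, hu⟩ : ∃ v, v ∉ W := by
    by_contra hc
    push Not at hc
    exact ht (eq_top_iff.mpr fun x _ => hc x)
  have hnt : Nontrivial ι := by
    rw [← Fintype.one_lt_card_iff_nontrivial, ← Module.finrank_fintype_fun_eq_card F]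
    have h1 : 0 < Module.finrank F W := by
      rw [Module.finrank_pos_iff]; exact Submodule.nontrivial_iff_ne_bot.mpr hb
    have h2 := Submodule.finrank_lt ht
    omega
  constructor
  · intro h
    obtain ⟨g, g1, g2⟩ := exists_det_eq_mulVec_eq hv0 (u' := u) (by rintro rfl; exact hu W.zero_mem)
      (one_ne_zero (α := F))
    obtain ⟨x, rfl⟩ := hf g g1
    have : x ∈ (stab W).comap f := h ▸ Subgroup.mem_top x
    exact hu (g2 ▸ (this v).mp hv)
  · intro K hK
    obtain ⟨k, hk, hkW⟩ := SetLike.exists_of_lt hK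
    have hker : ∀ x y : H, f x = f y → x ∈ K → y ∈ K := fun x y e hx => by
      have : x⁻¹ * y ∈ K := hK.le (by
        rw [Subgroup.mem_comap, map_mul, map_inv, e, inv_mul_cancel]; exact Subgroup.one_mem _)
      simpa using K.mul_mem hx this
    have hSL := mem_of_det_eq_one hb (K.map f) (fun g g0 g1 => by
      obtain ⟨x, rfl⟩ := hf g g1
      exact ⟨x, hK.le g0, rfl⟩) ⟨k, hk, rfl⟩ hkW
    rw [eq_top_iff]
    intro x _
    obtain ⟨g, g0, g1, -⟩ := exists_stab_of_mem ht hv hv hv0 hv0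
      (d := ((f x : GL ι F) : Matrix ι ι F).det) (Matrix.GeneralLinearGroup.det_ne_zero _)
    have e1 : ((g⁻¹ * f x : GL ι F) : Matrix ι ι F).det = 1 := by
      rw [Units.val_mul, det_mul, ← g1, ← det_mul, ← Units.val_mul, inv_mul_cancel, Units.val_one,
        det_one]
    obtain ⟨y, hy, ey⟩ := hSL _ e1
    have : x * y⁻¹ ∈ K := hK.le (by
      rw [Subgroup.mem_comap, map_mul, map_inv, ey]
      simpa using g0)
    simpa using K.mul_mem this hy

theorem isCoatom_stab {W : Submodule F (ι → F)} (hb : W ≠ ⊥) (ht : W ≠ ⊤) : IsCoatom (stab W) := by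
  have := isCoatom_comap_stab hb ht (MonoidHom.id (GL ι F)) (fun g _ => ⟨g, rfl⟩)
  simpa using this

/-- The coordinate subspace spanned by the first `k` basis vectors. -/
def coord (F : Type*) [Field F] (n k : ℕ) : Submodule F (Fin n → F) where
  carrier := {v | ∀ i : Fin n, k ≤ (i : ℕ) → v i = 0}
  add_mem' ha hb i hi := by simp [ha i hi, hb i hi]
  zero_mem' _ _ := rfl
  smul_mem' c _ hx i hi := by simp [hx i hi]

theorem mem_coord {n k : ℕ} {v : Fin n → F} :
    v ∈ coord F n k ↔ ∀ i : Fin n, k ≤ (i : ℕ) → v i = 0 := Iff.rfl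

theorem finrank_coord {n k : ℕ} (hk : k ≤ n) : Module.finrank F (coord F n k) = k := by
  let e : coord F n k ≃ₗ[F] (Fin k → F) :=
    { toFun := fun v i => v.1 (Fin.castLE hk i)
      map_add' := fun _ _ => rfl
      map_smul' := fun _ _ => rfl
      invFun := fun w => ⟨fun i => if h : (i : ℕ) < k then w ⟨i, h⟩ else 0, fun i hi => by
        simp [not_lt.mpr hi]⟩
      left_inv := fun v => by
        ext i
        by_cases h : (i : ℕ) < k
        · simp [h]
        · simp [h, v.2 i (not_lt.mp h)]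
      right_inv := fun w => by ext i; simp }
  rw [e.finrank_eq, Module.finrank_fintype_fun_eq_card, Fintype.card_fin]

theorem mem_stab_coord {n k : ℕ} {g : GL (Fin n) F} :
    g ∈ stab (coord F n k) ↔
      ∀ i j : Fin n, k ≤ (i : ℕ) → (j : ℕ) < k → (g : Matrix (Fin n) (Fin n) F) i j = 0 := by
  rw [mem_stab_iff_le]
  constructor
  · intro h i j hi hj
    have := h (Pi.single j 1) (fun l hl => Pi.single_eq_of_ne (by rintro rfl; omega) _) i hi
    simpa using this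
  · intro h v hv i hi
    rw [mulVec, dotProduct]
    refine Finset.sum_eq_zero fun j _ => ?_
    by_cases hj : (j : ℕ) < k
    · rw [h i j hi hj, zero_mul]
    · rw [hv j (not_lt.mp hj), mul_zero]

end Cfsg.Agent.Class.GLStab
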