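import Mathlib
import Cfsg.Agent.Misc.Zsigmondy

/-! The Singer cycle of `GL_F(K)` for a finite field extension `K / F`. -/

set_option autoImplicit false

namespace Cfsg.Agent.Class.Singer

variable (F K : Type*) [Field F] [Field K] [Algebra F K]

/-- Multiplication by a non-zero element of `K`. -/
noncomputable abbrev emb : Kˣ →* (Module.End F K)ˣ :=
  Units.map ((Algebra.lmul F K : K →ₐ[F] Module.End F K) : K →* Module.End F K)

/-- The Singer group. -/
noncomputable abbrev grp : Subgroup (Module.End F K)ˣ := (emb F K).range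

variable {F K}

theorem emb_apply (a : Kˣ) (x : K) : (emb F K a : Module.End F K) x = a * x := rfl

theorem emb_injective : Function.Injective (emb F K) := fun a b h => Units.ext (by
  have := congrArg (fun g : (Module.End F K)ˣ => (g : Module.End F K) 1) h
  simpa [emb_apply] using this)

theorem unit_injective (g : (Module.End F K)ˣ) : Function.Injective (g : Module.End F K) :=
  ((Module.End.isUnit_iff _).1 g.isUnit).1

theorem apply_one_ne_zero (g : (Module.End F K)ˣ) : (g : Module.End F K) 1 ≠ 0 := fun h =>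
  one_ne_zero (unit_injective g (h.trans (map_zero _).symm))

theorem mem_grp {g : (Module.End F K)ˣ} :
    g ∈ grp F K ↔ ∃ a : K, ∀ x, (g : Module.End F K) x = a * x := by
  constructor
  · rintro ⟨a, rfl⟩
    exact ⟨a, fun _ => rfl⟩
  · rintro ⟨a, h⟩
    refine ⟨Units.mk0 a fun e => apply_one_ne_zero g (by rw [h, e, zero_mul]), Units.ext ?_⟩
    ext x
    exact (h x).symm

theorem card_grp [Finite K] : Nat.card (grp F K) = Nat.card K - 1 := by
  rw [← Nat.card_units, ← Nat.card_congr (MonoidHom.ofInjective emb_injective).toEquiv]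

theorem centralizer_grp : Subgroup.centralizer (grp F K : Set (Module.End F K)ˣ) = grp F K := by
  refine le_antisymm ?_ ?_
  · intro g hg
    refine mem_grp.2 ⟨(g : Module.End F K) 1, fun x => ?_⟩
    by_cases hx : x = 0
    · simp [hx]
    · have := congrArg (fun g : (Module.End F K)ˣ => (g : Module.End F K) 1)
        (hg _ ⟨Units.mk0 x hx, rfl⟩)
      simp only [Units.val_mul, Module.End.mul_apply, emb_apply, Units.val_mk0, mul_one] at this
      rw [← this, mul_comm]
  · rintro _ ⟨a, rfl⟩ _ ⟨b, rfl⟩
    rw [← map_mul, ← map_mul, mul_comm]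

/-- A field automorphism as an element of `GL_F(K)`. -/
noncomputable def gal (σ : K ≃ₐ[F] K) : (Module.End F K)ˣ :=
  ⟨σ.toLinearMap, σ.symm.toLinearMap, by ext; simp, by ext; simp⟩

theorem gal_mem_normalizer (σ : K ≃ₐ[F] K) :
    gal σ ∈ Subgroup.normalizer (grp F K : Set (Module.End F K)ˣ) := by
  intro g
  simp only [SetLike.mem_coe, mem_grp]
  constructor
  · rintro ⟨a, h⟩
    refine ⟨σ a, fun x => ?_⟩
    change σ ((g : Module.End F K) (σ.symm x)) = _
    rw [h, map_mul, σ.apply_symm_apply]
  · rintro ⟨a, h⟩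
    refine ⟨σ.symm a, fun x => σ.injective ?_⟩
    have : σ ((g : Module.End F K) (σ.symm (σ x))) = _ := h (σ x)
    rw [σ.symm_apply_apply] at this
    rw [this, map_mul, σ.apply_symm_apply]

theorem exists_of_mem_normalizer {g : (Module.End F K)ˣ}
    (hg : g ∈ Subgroup.normalizer (grp F K : Set (Module.End F K)ˣ)) :
    ∃ (a : Kˣ) (σ : K ≃ₐ[F] K), g = emb F K a * gal σ := by
  set a := Units.mk0 _ (apply_one_ne_zero g) with ha
  have key : ∀ x y, (g : Module.End F K) (x * y) =
      (a⁻¹ : Kˣ) * (g : Module.End F K) x * (g : Module.End F K) y := fun x y => by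
    by_cases hx : x = 0
    · simp [hx]
    obtain ⟨c, hc⟩ := mem_grp.1 ((hg _).1 ⟨Units.mk0 x hx, rfl⟩)
    have h : ∀ y, (g : Module.End F K) (x * y) = c * (g : Module.End F K) y := fun y => by
      rw [← hc, ← Module.End.mul_apply, ← Units.val_mul, inv_mul_cancel_right]
      rfl
    have h1 := h 1
    rw [mul_one] at h1
    rw [h, h1, Units.val_inv_eq_inv_val, ha, Units.val_mk0]
    have := apply_one_ne_zero g
    field_simp
  let f : K →ₐ[F] K := AlgHom.ofLinearMap (((emb F K a)⁻¹ * g : (Module.End F K)ˣ) : Module.End F K)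
    (by rw [← map_inv]; exact a.inv_mul)
    (fun x y => by
      rw [← map_inv]
      change (a⁻¹ : Kˣ) * (g : Module.End F K) (x * y) =
        ((a⁻¹ : Kˣ) * (g : Module.End F K) x) * ((a⁻¹ : Kˣ) * (g : Module.End F K) y)
      rw [key]
      ring)
  refine ⟨a, AlgEquiv.ofBijective f ((Module.End.isUnit_iff _).1 (Units.isUnit ((emb F K a)⁻¹ * g))), ?_⟩
  rw [← inv_mul_eq_iff_eq_mul]
  exact Units.ext rfl

theorem card_normalizer [Finite K] :
    Nat.card (Subgroup.normalizer (grp F K : Set (Module.End F K)ˣ)) =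
      Module.finrank F K * (Nat.card K - 1) := by
  have : Finite F := Finite.of_injective _ (algebraMap F K).injective
  rw [← IsGalois.card_aut_eq_finrank, ← Nat.card_units, mul_comm, ← Nat.card_prod]
  refine (Nat.card_congr (Equiv.ofBijective (fun x : Kˣ × (K ≃ₐ[F] K) => ⟨emb F K x.1 * gal x.2,
    Subgroup.mul_mem _ (Subgroup.le_normalizer ⟨_, rfl⟩) (gal_mem_normalizer _)⟩) ⟨?_, ?_⟩)).symm
  · rintro ⟨a, σ⟩ ⟨b, τ⟩ h
    have h1 : ∀ x, (a : K) * σ x = b * τ x := fun x =>
      congrArg (fun g : Subgroup.normalizer (grp F K : Set (Module.End F K)ˣ) =>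
        ((g : (Module.End F K)ˣ) : Module.End F K) x) h
    have h2 : a = b := Units.ext (by simpa using h1 1)
    subst h2
    exact Prod.ext rfl (AlgEquiv.ext fun x => mul_left_cancel₀ a.ne_zero (h1 x))
  · rintro ⟨g, hg⟩
    obtain ⟨a, σ, rfl⟩ := exists_of_mem_normalizer hg
    exact ⟨⟨a, σ⟩, rfl⟩

theorem exists_card_inf [Finite K] (g : (Module.End F K)ˣ) :
    ∃ r : ℕ, r ∣ Module.finrank F K ∧ Nat.card ↥((grp F K).map (MulAut.conj g).toMonoidHom ⊓ grp F K) =
      Nat.card F ^ r - 1 := by
  have : Finite F := Finite.of_injective _ (algebraMap F K).injective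
  let c : Module.End F K →ₐ[F] Module.End F K := AlgHom.ofLinearMap
    ((LinearMap.mulLeft F ((g⁻¹ : (Module.End F K)ˣ) : Module.End F K)).comp
      (LinearMap.mulRight F (g : Module.End F K))) (by simp)
      (fun x y => by simp [mul_assoc])
  let A : Subalgebra F K := (Algebra.lmul F K).range.comap (c.comp (Algebra.lmul F K))
  let E : IntermediateField F K := Subalgebra.IsAlgebraic.toIntermediateField (S := A)
    fun x _ => Algebra.IsAlgebraic.isAlgebraic x
  refine ⟨Module.finrank F E, Dvd.intro _ (Module.finrank_mul_finrank F E K), ?_⟩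
  rw [← Module.natCard_eq_pow_finrank, ← Nat.card_units]
  have hmem : ∀ a : Kˣ, (a : K) ∈ E ↔ emb F K a ∈ (grp F K).map (MulAut.conj g).toMonoidHom := by
    intro a
    rw [Subgroup.mem_map_equiv, mem_grp]
    refine exists_congr fun b => ⟨fun h x => ?_, fun h => LinearMap.ext fun x => (h x).symm⟩
    exact (LinearMap.congr_fun h x).symm
  refine (Nat.card_congr (Equiv.ofBijective (fun x : Eˣ => ⟨emb F K (Units.map (E.val : E →* K) x),
    (hmem _).1 (x : E).2, _, rfl⟩) ⟨?_, ?_⟩)).symm
  · intro x y h
    exact Units.ext (Subtype.ext (congrArg Units.val (emb_injective (congrArg Subtype.val h))))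
  · rintro ⟨_, h, a, rfl⟩
    exact ⟨Units.mk0 ⟨a, (hmem a).2 h⟩ fun e => a.ne_zero (congrArg Subtype.val e),
      Subtype.ext (congrArg (emb F K) (Units.ext rfl))⟩

theorem finrank_eq_of_dvd {V : Type*} [AddCommGroup V] [Module F V] [Finite V] [Finite F] {r : ℕ}
    (hr : Misc.Zsig.IsPPD (Nat.card F) (Module.finrank F V) r) {k : ℕ} (hk : 0 < k)
    (hk' : k ≤ Module.finrank F V) (h : r ∣ Nat.card F ^ k - 1) : k = Module.finrank F V := by
  by_contra hne
  exact hr.2.2 k hk (by omega) h

/-- An element whose order is a primitive prime divisor acts irreducibly. -/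
theorem irreducible_of_ppd {V : Type*} [AddCommGroup V] [Module F V] [Finite V] [Finite F] {r : ℕ}
    (hr : Misc.Zsig.IsPPD (Nat.card F) (Module.finrank F V) r) {u : (Module.End F V)ˣ}
    (hu : orderOf u = r) (W : Submodule F V) (hW : ∀ x ∈ W, (u : Module.End F V) x ∈ W) :
    W = ⊥ ∨ W = ⊤ := by
  have := Fact.mk hr.1
  have hq : 1 < Nat.card F := Finite.one_lt_card
  have : Finite (Module.End F V) := Finite.of_injective _ DFunLike.coe_injective
  have hP : IsPGroup r (Subgroup.zpowers u) := IsPGroup.of_card (n := 1) (by simpa using hu)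
  let C : Submodule F V := LinearMap.ker ((u : Module.End F V) - 1)
  have hC : ∀ x, x ∈ C ↔ (u : Module.End F V) x = x := fun x => by
    simp [C, sub_eq_zero]
  have hcop : r.Coprime (Nat.card F) := by
    refine (Nat.Prime.coprime_iff_not_dvd hr.1).2 fun h => hr.1.one_lt.ne' ?_
    rcases Nat.eq_zero_or_pos (Module.finrank F V) with h0 | h0
    · have : Subsingleton V := Module.finrank_zero_iff.1 h0
      rw [← hu, Subsingleton.elim u 1, orderOf_one]
    · have := (Nat.dvd_sub_iff_right (Nat.one_le_pow _ _ (by omega))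
        (h.trans (dvd_pow_self _ h0.ne'))).1 hr.2.1
      exact Nat.dvd_one.1 this
  have key : ∀ W : Submodule F V, (∀ x ∈ W, (u : Module.End F V) x ∈ W) →
      Nat.card W ≡ Nat.card ↥(W ⊓ C) [MOD r] := fun W hW => by
    have hpow : ∀ g ∈ Subgroup.zpowers u, ∀ x ∈ W, (g : Module.End F V) x ∈ W := fun g hg => by
      rw [← mem_powers_iff_mem_zpowers] at hg
      obtain ⟨n, rfl⟩ := hg
      induction n with
      | zero => exact fun x hx => hx
      | succ n ih => exact fun x hx => by simpa [pow_succ] using ih _ (hW x hx)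
    let _ : MulAction (Subgroup.zpowers u) W :=
      { smul := fun g x => ⟨((g : (Module.End F V)ˣ) : Module.End F V) x, hpow _ g.2 _ x.2⟩
        one_smul := fun _ => rfl
        mul_smul := fun _ _ _ => rfl }
    have e : MulAction.fixedPoints (Subgroup.zpowers u) W ≃ ↥(W ⊓ C) :=
      { toFun := fun x => ⟨x.1, x.1.2, (hC _).2
          (congrArg Subtype.val (x.2 ⟨u, Subgroup.mem_zpowers u⟩))⟩
        invFun := fun x => ⟨⟨x.1, x.2.1⟩, fun g => Subtype.ext
          ((Subgroup.zpowers_le (H := MulAction.stabilizer (Module.End F V)ˣ (x : V))).2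
            ((hC _).1 x.2.2) g.2)⟩
        left_inv := fun _ => rfl
        right_inv := fun _ => rfl }
    exact Nat.card_congr e ▸ hP.card_modEq_card_fixedPoints W
  have hC1 : C = ⊥ := by
    by_contra h0
    have h1 := (key ⊤ fun _ _ => trivial).symm
    rw [top_inf_eq, Module.natCard_eq_pow_finrank (K := F) (V := C),
      Module.natCard_eq_pow_finrank (K := F) (V := (⊤ : Submodule F V)), finrank_top] at h1
    have h2 : Module.finrank F C < Module.finrank F V := Submodule.finrank_lt fun e => by
      have : u = 1 := Units.ext (LinearMap.ext fun x => (hC x).1 (e ▸ Submodule.mem_top))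
      rw [this, orderOf_one] at hu
      exact hr.1.one_lt.ne hu
    have h3 : Module.finrank F C ≠ 0 := fun e => h0 (Submodule.finrank_eq_zero.1 e)
    obtain ⟨k, hk⟩ := Nat.exists_eq_add_of_lt h2
    rw [hk, add_assoc, pow_add] at h1
    nth_rewrite 1 [← mul_one (_ ^ _)] at h1
    have h4 := Nat.ModEq.cancel_left_of_coprime (hcop.pow_right _) h1
    have := finrank_eq_of_dvd hr (k := k + 1) (by omega) (by omega)
      ((Nat.modEq_iff_dvd' (Nat.one_le_pow _ _ (by omega))).1 h4)
    omega
  by_cases h0 : W = ⊥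
  · exact Or.inl h0
  have h1 := (key W hW).symm
  rw [hC1, inf_bot_eq, Module.natCard_eq_pow_finrank (K := F) (V := W),
    Module.natCard_eq_pow_finrank (K := F) (V := (⊥ : Submodule F V)), finrank_bot, pow_zero] at h1
  exact Or.inr (Submodule.eq_top_of_finrank_eq (finrank_eq_of_dvd hr
    (Nat.pos_of_ne_zero fun e => h0 (Submodule.finrank_eq_zero.1 e)) W.finrank_le
    ((Nat.modEq_iff_dvd' (Nat.one_le_pow _ _ (by omega))).1 h1)))

/-- An abelian subgroup of order `|K| - 1` containing an irreducible element is a Singer group. -/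
theorem exists_conj_of_irreducible [Finite K] {U : Subgroup (Module.End F K)ˣ}
    (hU : IsMulCommutative U) (hc : Nat.card U = Nat.card K - 1) {u : (Module.End F K)ˣ}
    (hu : u ∈ U) (hirr : ∀ W : Submodule F K, (∀ x ∈ W, (u : Module.End F K) x ∈ W) →
      W = ⊥ ∨ W = ⊤) :
    ∃ g : (Module.End F K)ˣ, U.map (MulAut.conj g).toMonoidHom = grp F K := by
  have : Finite F := Finite.of_injective _ (algebraMap F K).injective
  have : Finite (Module.End F K) := Finite.of_injective _ DFunLike.coe_injective
  let A := Subalgebra.centralizer F {(u : Module.End F K)}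
  have hinj : ∀ a : A, a ≠ 0 → Function.Injective (a : Module.End F K) := fun a ha => by
    rw [← LinearMap.ker_eq_bot]
    refine (hirr _ fun x hx => ?_).resolve_right fun e => ha (Subtype.ext (LinearMap.ker_eq_top.1 e))
    rw [LinearMap.mem_ker, ← Module.End.mul_apply, ← a.2 _ rfl, Module.End.mul_apply,
      LinearMap.mem_ker.1 hx, map_zero]
  have : NoZeroDivisors A := ⟨fun {a b} h => by
    by_cases ha : a = 0
    · exact Or.inl ha
    · exact Or.inr (Subtype.ext (LinearMap.ext fun x => hinj a ha
        ((LinearMap.congr_fun (congrArg Subtype.val h) x).trans (map_zero _).symm)))⟩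
  have : IsDomain A := NoZeroDivisors.to_isDomain A
  let _ := (Finite.isDomain_to_isField A).toField
  let ev : A →ₗ[F] K := (LinearMap.applyₗ (1 : K)).comp A.val.toLinearMap
  have hev : Function.Injective ev := by
    rw [injective_iff_map_eq_zero]
    intro a ha
    by_contra h0
    exact one_ne_zero (hinj a h0 (ha.trans (map_zero _).symm))
  have hUA : ∀ v ∈ U, (v : Module.End F K) ∈ A := fun v hv => by
    rintro _ rfl
    exact congrArg (fun z : U => ((z : (Module.End F K)ˣ) : Module.End F K))
      (mul_comm' (⟨u, hu⟩ : U) ⟨v, hv⟩)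
  have hcard : Nat.card K ≤ Nat.card A := by
    have h1 := Nat.card_le_card_of_injective (fun v : U => Units.mk0 (⟨_, hUA v v.2⟩ : A)
      fun e => Units.ne_zero _ (congrArg Subtype.val e)) fun v w h =>
        Subtype.ext (Units.ext (congrArg (fun z : Aˣ => ((z : A) : Module.End F K)) h))
    rw [hc, Nat.card_units] at h1
    have : 0 < Nat.card A := Nat.card_pos
    omega
  have hbij : Function.Bijective ev := hev.bijective_of_nat_card_le hcard
  let e := LinearEquiv.ofBijective ev hbij
  obtain ⟨φ⟩ := FiniteField.nonempty_algHom_of_finrank_dvd (F := F) (K := A) (L := K)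
    e.finrank_eq.dvd
  have hφ : Function.Bijective φ := φ.injective.bijective_of_nat_card_le hcard
  let g : K ≃ₗ[F] K := e.symm.trans (LinearEquiv.ofBijective φ.toLinearMap hφ)
  refine ⟨⟨g.toLinearMap, g.symm.toLinearMap, by ext; simp, by ext; simp⟩,
    Subgroup.eq_of_le_of_card_ge ?_ ?_⟩
  · rintro _ ⟨v, hv, rfl⟩
    refine mem_grp.2 ⟨φ ⟨_, hUA v hv⟩, fun x => ?_⟩
    obtain ⟨x, rfl⟩ := g.surjective x
    obtain ⟨b, rfl⟩ := e.surjective x
    change g ((v : Module.End F K) (g.symm (g (e b)))) = _
    rw [g.symm_apply_apply]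
    change g (e (⟨_, hUA v hv⟩ * b)) = _
    simp only [g, LinearEquiv.trans_apply, e.symm_apply_apply]
    exact map_mul φ _ _
  · rw [card_grp, Subgroup.card_map_of_injective (MulAut.conj _).injective, hc]

end Cfsg.Agent.Class.Singer
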